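import Groth.Agent.Hensel.Local
import Mathlib.RingTheory.DedekindDomain.IntegralClosure
import Mathlib.RingTheory.DiscreteValuationRing.TFAE
import Mathlib.RingTheory.Valuation.ValuationSubring
import Mathlib.FieldTheory.IsSepClosed

/-!
# Finite extensions inside a discretely valued field over a henselian DVR
-/

set_option linter.style.haveILetI false

universe u

open IsLocalRing

namespace Groth.Agent.Milnor

variable (V : Type u) [CommRing V] [IsDomain V] [IsDiscreteValuationRing V] [HenselianLocalRing V]
  [IsAlgClosed (ResidueField V)] (K : Type u) [Field K] [Algebra V K] [IsFractionRing V K]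
  [CharZero K] {F : Type u} [Field F] [Algebra K F] [Algebra V F] [IsScalarTower V K F]

/-- A finite domain over a henselian local ring is local. -/
theorem isLocalRing_of_finite_domain (R S : Type u) [CommRing R] [HenselianLocalRing R]
    [CommRing S] [IsDomain S] [Algebra R S] [Module.Finite R S] : IsLocalRing S := by
  obtain ⟨n, e, he, hloc⟩ := Groth.Agent.Hensel.exists_pi_local (R := R) S
  obtain ⟨i, hi⟩ : ∃ i, e i = 1 := by
    by_contra hne
    push Not at hne
    have h0 : ∀ i, e i = 0 := fun i =>
      ((IsIdempotentElem.iff_eq_zero_or_one).1 (he.idem i)).resolve_right (hne i)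
    have := he.complete
    simp [h0] at this
  have := hloc i
  rw [hi, sub_self, show Ideal.span {(0 : S)} = ⊥ from Ideal.span_singleton_eq_bot.2 rfl] at this
  exact (RingEquiv.quotientBot S).isLocalRing

/-- Finite subextensions of a discretely valued field dominating a henselian DVR with algebraically
closed residue field have degree at most the valuation of a uniformizer. -/
theorem finrank_le_of_dvr (O : ValuationSubring F) {π : V} (hπ : Irreducible π)
    (hV : ∀ a : V, algebraMap V F a ∈ O) (hVπ : O.valuation (algebraMap V F π) < 1) {n : ℕ}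
    {ϖ : O} (hϖ : Irreducible ϖ) (hn : (⟨algebraMap V F π, hV π⟩ : O) ∉ Ideal.span {ϖ ^ (n + 1)})
    [IsDiscreteValuationRing O]
    (E : IntermediateField K F) [FiniteDimensional K E] : Module.finrank K E ≤ n := by
  classical
  haveI : FaithfulSMul V K := IsFractionRing.instFaithfulSMul V K
  let E' := integralClosure V E
  haveI : Algebra.IsSeparable K E := inferInstance
  haveI : Module.Finite V E' := IsIntegralClosure.finite V K E E'
  haveI : IsDedekindDomain E' := IsIntegralClosure.isDedekindDomain V K E E'
  haveI : IsLocalRing E' := isLocalRing_of_finite_domain V E'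
  haveI : IsFractionRing E' E := integralClosure.isFractionRing_of_finite_extension K E
  haveI : FaithfulSMul V E' := by
    rw [faithfulSMul_iff_algebraMap_injective]
    intro x y hxy
    have := congrArg (algebraMap E' E) hxy
    rw [← IsScalarTower.algebraMap_apply, ← IsScalarTower.algebraMap_apply,
      IsScalarTower.algebraMap_apply V K E, IsScalarTower.algebraMap_apply V K E] at this
    exact IsFractionRing.injective V K ((algebraMap K E).injective this)
  have hVE : IsLocalHom (algebraMap V E') :=
    RingHom.IsIntegral.isLocalHom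
      (Algebra.IsIntegral.isIntegral (R := V) (A := E')) (FaithfulSMul.algebraMap_injective V E')
  have hπ' : algebraMap V E' π ∈ maximalIdeal E' := fun hu => hπ.not_isUnit (hVE.map_nonunit _ hu)
  have hnf : ¬ IsField E' := by
    intro hf
    have h0 : maximalIdeal E' = ⊥ := IsLocalRing.isField_iff_maximalIdeal_eq.1 hf
    rw [h0, Ideal.mem_bot, map_eq_zero_iff _ (FaithfulSMul.algebraMap_injective V E')] at hπ'
    exact hπ.ne_zero hπ'
  haveI : IsDiscreteValuationRing E' :=
    ((IsDiscreteValuationRing.TFAE E' hnf).out 2 0).mp ‹IsDedekindDomain E'›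
  obtain ⟨ϑ, hϑ⟩ := IsDiscreteValuationRing.exists_irreducible E'
  obtain ⟨e, u, hu⟩ := IsDiscreteValuationRing.eq_unit_mul_pow_irreducible
    (show algebraMap V E' π ≠ 0 from fun h => hπ.ne_zero
      ((map_eq_zero_iff _ (FaithfulSMul.algebraMap_injective V E')).1 h)) hϑ
  -- every element of `E'` lies in the valuation ring
  have hE'O : ∀ x : E', ((x : E) : F) ∈ O := by
    intro x
    obtain ⟨p, hp, hpx⟩ := (x.2 : IsIntegral V (x : E)).map (E.val.restrictScalars V)
    refine (IsIntegrallyClosed.algebraMap_eq_of_integral (R := O) (K := F)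
      (x := ((x : E) : F)) ?_).elim fun y hy => hy ▸ y.2
    let ψ : V →+* O := (algebraMap V F).codRestrict O.toSubring hV
    refine ⟨p.map ψ, hp.map _, ?_⟩
    rw [Polynomial.eval₂_map]
    exact hpx
  let ι : E' →+* O := ((algebraMap E F).comp (algebraMap E' E)).codRestrict O.toSubring hE'O
  have hιV : ∀ a : V, ι (algebraMap V E' a) = ⟨algebraMap V F a, hV a⟩ := fun a => Subtype.ext rfl
  have hϑO : ι ϑ ∈ maximalIdeal O := by
    intro hu'
    have : IsUnit (ι (algebraMap V E' π)) := by
      rw [hu, map_mul, map_pow]
      exact (u.isUnit.map ι).mul (hu'.pow e)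
    rw [hιV] at this
    have := (O.valuation_eq_one_iff ⟨_, hV π⟩).1 this
    exact (ne_of_lt hVπ) this
  have hen : e ≤ n := by
    by_contra hne
    refine hn ?_
    rw [← hιV, hu, map_mul, map_pow]
    refine Ideal.mul_mem_left _ _ ?_
    rw [← Ideal.span_singleton_pow, ← hϖ.maximalIdeal_eq]
    exact Ideal.pow_le_pow_right (by omega) (Ideal.pow_mem_pow hϑO e)
  -- `E'` is generated by `1, ϑ, …, ϑ ^ (e - 1)`
  have hres : ∀ x : E', ∃ a : V, x - algebraMap V E' a ∈ maximalIdeal E' := by
    intro x
    haveI : Algebra.IsAlgebraic (ResidueField V) (ResidueField E') := inferInstance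
    obtain ⟨y, hy⟩ := (IsAlgClosed.algebraMap_bijective_of_isIntegral
      (k := ResidueField V) (K := ResidueField E')).2 (residue E' x)
    obtain ⟨a, rfl⟩ := residue_surjective y
    exact ⟨a, (residue_eq_zero_iff _).1 (by rw [map_sub, sub_eq_zero, ← hy]; rfl)⟩
  have hstep : ∀ j : ℕ, ∀ x : E', ∃ c : Fin j → V, ∃ y : E',
      x = (∑ i, algebraMap V E' (c i) * ϑ ^ (i : ℕ)) + y * ϑ ^ j := by
    intro j
    induction j with
    | zero => exact fun x => ⟨Fin.elim0, x, by simp⟩
    | succ j ih =>
      intro x
      obtain ⟨c, y, rfl⟩ := ih x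
      obtain ⟨a, ha⟩ := hres y
      rw [hϑ.maximalIdeal_eq, Ideal.mem_span_singleton'] at ha
      obtain ⟨z, hz⟩ := ha
      refine ⟨Fin.snoc c a, z, ?_⟩
      rw [Fin.sum_univ_castSucc]
      simp only [Fin.snoc_castSucc, Fin.val_castSucc, Fin.snoc_last, Fin.val_last]
      linear_combination (-ϑ ^ j) * hz
  let S : Submodule V E' := Submodule.span V (Set.range fun i : Fin e => ϑ ^ (i : ℕ))
  have hS : (⊤ : Submodule V E') ≤ S := by
    refine Submodule.le_of_le_smul_of_le_jacobson_bot Module.Finite.fg_top
      (IsLocalRing.maximalIdeal_le_jacobson ⊥) fun x _ => ?_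
    obtain ⟨c, y, rfl⟩ := hstep e x
    refine Submodule.add_mem_sup (Submodule.sum_mem _ fun i _ => ?_) ?_
    · rw [← Algebra.smul_def]
      exact Submodule.smul_mem _ _ (Submodule.subset_span ⟨i, rfl⟩)
    · have : y * ϑ ^ e = π • (y * ↑u⁻¹) := by
        rw [Algebra.smul_def, hu]
        linear_combination (-(y * ϑ ^ e)) * u.mul_inv
      rw [this]
      exact Submodule.smul_mem_smul ((hπ.maximalIdeal_eq).symm ▸ Ideal.mem_span_singleton_self π)
        Submodule.mem_top
  refine le_trans ?_ hen
  -- the same elements span `E` over `K`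
  have hspan : (⊤ : Submodule K E) ≤
      Submodule.span K (Set.range fun i : Fin e => algebraMap E' E (ϑ ^ (i : ℕ))) := by
    intro x _
    haveI := IsIntegralClosure.isLocalization V K E E'
    obtain ⟨⟨y, d, hd⟩, hyd⟩ :=
      IsLocalization.surj (Algebra.algebraMapSubmonoid E' (nonZeroDivisors V)) x
    obtain ⟨d, hd0, rfl⟩ := hd
    have hy : algebraMap E' E y ∈
        Submodule.span K (Set.range fun i : Fin e => algebraMap E' E (ϑ ^ (i : ℕ))) := by
      refine Submodule.span_induction (p := fun z _ => algebraMap E' E z ∈ _) ?_ ?_ ?_ ?_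
        (hS (Submodule.mem_top (x := y)))
      · rintro _ ⟨i, rfl⟩; exact Submodule.subset_span ⟨i, rfl⟩
      · rw [map_zero]; exact Submodule.zero_mem _
      · intro a b _ _ ha hb; rw [map_add]; exact Submodule.add_mem _ ha hb
      · intro a z _ hz
        rw [Algebra.smul_def, map_mul, ← IsScalarTower.algebraMap_apply,
          IsScalarTower.algebraMap_apply V K E, ← Algebra.smul_def]
        exact Submodule.smul_mem _ _ hz
    have hd' : algebraMap V K d ≠ 0 := IsFractionRing.to_map_ne_zero_of_mem_nonZeroDivisors hd0
    have : x = (algebraMap V K d)⁻¹ • algebraMap E' E y := by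
      rw [← hyd, mul_comm]
      show x = (algebraMap V K d)⁻¹ • (algebraMap E' E (algebraMap V E' d) * x)
      rw [← IsScalarTower.algebraMap_apply, IsScalarTower.algebraMap_apply V K E,
        ← Algebra.smul_def, smul_smul, inv_mul_cancel₀ hd', one_smul]
    rw [this]
    exact Submodule.smul_mem _ _ hy
  calc Module.finrank K E = Module.finrank K (⊤ : Submodule K E) := (finrank_top K E).symm
    _ ≤ Module.finrank K
        (Submodule.span K (Set.range fun i : Fin e => algebraMap E' E (ϑ ^ (i : ℕ)))) :=
      Submodule.finrank_mono hspan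
    _ ≤ e := (finrank_range_le_card _).trans (Fintype.card_fin e).le

end Groth.Agent.Milnor
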