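import Groth.Agent.Milnor.TensorDomain
import Groth.Agent.Milnor.Ramification
import Groth.Agent.DVRDom.Basic
import Mathlib.RingTheory.Noetherian.OfPrime
import Mathlib.RingTheory.TensorProduct.Basic
import Mathlib.RingTheory.FiniteType
import Mathlib.RingTheory.Ideal.GoingUp
import Mathlib.LinearAlgebra.TensorProduct.RightExactness

/-!
# The algebraic Milnor fibre is Noetherian
-/

set_option linter.style.haveILetI false

universe u

open IsLocalRing TensorProduct

namespace Groth.Agent.Milnor

variable (V : Type u) [CommRing V] [IsDomain V] [IsDiscreteValuationRing V] [HenselianLocalRing V]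
  [IsAlgClosed (ResidueField V)] [CharZero V]

/-- The algebraic closure of the base in the fraction field of a local Noetherian domain is finite. -/
theorem finiteDimensional_algebraicClosure (K : Type u) [Field K] [Algebra V K]
    [IsFractionRing V K] [CharZero K] (R : Type u) [CommRing R] [IsDomain R] [IsNoetherianRing R]
    [IsLocalRing R] [Algebra V R] (hVR : (maximalIdeal V).map (algebraMap V R) ≤ maximalIdeal R)
    (hinj : Function.Injective (algebraMap V R))
    (F : Type u) [Field F] [Algebra R F] [IsFractionRing R F] [Algebra V F] [IsScalarTower V R F]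
    [Algebra K F] [IsScalarTower V K F] :
    ∃ M : IntermediateField K F, FiniteDimensional K M ∧ ∀ x : F, IsIntegral K x → x ∈ M := by
  classical
  obtain ⟨π, hπ⟩ := IsDiscreteValuationRing.exists_irreducible V
  have hπR : algebraMap V R π ∈ maximalIdeal R :=
    hVR (Ideal.mem_map_of_mem _ (hπ.maximalIdeal_eq.symm ▸ Ideal.mem_span_singleton_self π))
  have hπ0 : algebraMap V R π ≠ 0 := fun h => hπ.ne_zero ((map_eq_zero_iff _ hinj).1 h)
  have hR : ¬ IsField R := fun hf => hπ0 (by
    rw [IsLocalRing.isField_iff_maximalIdeal_eq.1 hf] at hπR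
    exact hπR)
  obtain ⟨O, hO, hRO, hlt⟩ := Groth.Agent.DVRDom.exists_dvr_dominating R hR F F
    (IntermediateField.fg_top F F)
  haveI := hO
  have hV : ∀ a : V, algebraMap V F a ∈ O := fun a => by
    rw [IsScalarTower.algebraMap_apply V R F]; exact hRO _
  have hVπ : O.valuation (algebraMap V F π) < 1 := by
    rw [IsScalarTower.algebraMap_apply V R F]; exact hlt _ hπR
  obtain ⟨ϖ, hϖ⟩ := IsDiscreteValuationRing.exists_irreducible O
  have hne : (⟨algebraMap V F π, hV π⟩ : O) ≠ 0 := fun h => hπ0 (by
    have := congrArg Subtype.val h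
    change algebraMap V F π = 0 at this
    rw [IsScalarTower.algebraMap_apply V R F] at this
    exact (map_eq_zero_iff _ (IsFractionRing.injective R F)).1 this)
  obtain ⟨n, w, hw⟩ := IsDiscreteValuationRing.eq_unit_mul_pow_irreducible hne hϖ
  have hn : (⟨algebraMap V F π, hV π⟩ : O) ∉ Ideal.span {ϖ ^ (n + 1)} := by
    rw [hw, Ideal.mem_span_singleton, IsUnit.dvd_mul_left w.isUnit,
      pow_dvd_pow_iff hϖ.ne_zero hϖ.not_isUnit]
    omega
  let S : Set ℕ := {d | ∃ E : IntermediateField K F, FiniteDimensional K E ∧ Module.finrank K E = d}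
  have hbdd : BddAbove S := ⟨n, by
    rintro d ⟨E, _, rfl⟩
    exact finrank_le_of_dvr V K O hπ hV hVπ hϖ hn E⟩
  obtain ⟨E, hE, hEd⟩ := Nat.sSup_mem (s := S) ⟨_, ⊥, inferInstance, rfl⟩ hbdd
  refine ⟨E, hE, fun x hx => ?_⟩
  haveI := hE
  haveI : FiniteDimensional K (IntermediateField.adjoin K {x}) :=
    IntermediateField.adjoin.finiteDimensional hx
  have hle : Module.finrank K (E ⊔ IntermediateField.adjoin K {x} : IntermediateField K F) ≤
      Module.finrank K E := hEd.symm ▸ le_csSup hbdd ⟨_, inferInstance, rfl⟩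
  rw [IntermediateField.eq_of_le_of_finrank_le (le_sup_left : E ≤ E ⊔ _) hle]
  exact (le_sup_right : _ ≤ E ⊔ _) (IntermediateField.mem_adjoin_simple_self K x)

theorem finiteType_fractionRing (K : Type u) [Field K] [Algebra V K] [IsFractionRing V K] :
    Algebra.FiniteType V K := by
  classical
  obtain ⟨π, hπ⟩ := IsDiscreteValuationRing.exists_irreducible V
  refine ⟨⟨{(algebraMap V K π)⁻¹}, ?_⟩⟩
  rw [eq_top_iff]
  intro x _
  obtain ⟨a, b, hb, hab⟩ := IsFractionRing.div_surjective V x
  obtain ⟨m, w, hw⟩ := IsDiscreteValuationRing.eq_unit_mul_pow_irreducible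
    (nonZeroDivisors.ne_zero hb) hπ
  have hinv : algebraMap V K (↑w⁻¹ : V) = (algebraMap V K (w : V))⁻¹ :=
    eq_inv_of_mul_eq_one_left (by rw [← map_mul, Units.inv_mul, map_one])
  have : x = algebraMap V K (a * ↑w⁻¹) * ((algebraMap V K π)⁻¹) ^ m := by
    rw [← hab, hw, map_mul, map_mul, hinv, map_pow, div_eq_mul_inv, mul_inv, inv_pow, mul_assoc]
  rw [Finset.coe_singleton, this]
  have hmem : (algebraMap V K π)⁻¹ ∈ Algebra.adjoin V ({(algebraMap V K π)⁻¹} : Set K) :=
    Algebra.self_mem_adjoin_singleton V _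
  exact mul_mem (Subalgebra.algebraMap_mem _ _) (pow_mem hmem m)

section

variable {M C F L Ω : Type*} [CommRing M] [CommRing C] [CommRing F] [CommRing L] [CommRing Ω]
  [Algebra M C] [Algebra M F] [Algebra M L]

theorem ker_map_le [Module.Flat M L] (f : C →ₐ[M] F) :
    RingHom.ker (Algebra.TensorProduct.map f (AlgHom.id M L)) ≤
      (RingHom.ker f).map (Algebra.TensorProduct.includeLeftRingHom : C →+* C ⊗[M] L) := by
  intro z hz
  obtain ⟨w, rfl⟩ := (Module.Flat.rTensor_exact L (LinearMap.exact_subtype_ker_map f.toLinearMap)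
    z).1 hz
  clear hz
  induction w with
  | zero => rw [map_zero]; exact Submodule.zero_mem _
  | add a b ha hb => rw [map_add]; exact Submodule.add_mem _ ha hb
  | tmul a l =>
    rw [LinearMap.rTensor_tmul,
      show ((LinearMap.ker f.toLinearMap).subtype a) ⊗ₜ[M] l =
        Algebra.TensorProduct.includeLeftRingHom (a : C) * ((1 : C) ⊗ₜ[M] l) by simp]
    exact Ideal.mul_mem_right _ _ (Ideal.mem_map_of_mem _ (RingHom.mem_ker.2 a.2))

theorem ker_eq_map_of_isDomain [Module.Flat M L] [Algebra.IsIntegral M L] [IsDomain (F ⊗[M] L)]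
    (f : C →ₐ[M] F) (θ : C ⊗[M] L →+* Ω) (g : F →+* Ω) (hg : Function.Injective g)
    (hθ : ∀ x : C, θ (x ⊗ₜ 1) = g (f x)) :
    RingHom.ker θ = (RingHom.ker f).map (Algebra.TensorProduct.includeLeftRingHom :
      C →+* C ⊗[M] L) := by
  have hle : (RingHom.ker f).map (Algebra.TensorProduct.includeLeftRingHom :
      C →+* C ⊗[M] L) ≤ RingHom.ker θ := by
    rw [Ideal.map_le_iff_le_comap]
    intro x hx
    show θ (x ⊗ₜ 1) = 0
    rw [hθ, show f x = 0 from hx, map_zero]
  refine le_antisymm ?_ hle
  by_contra hne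
  haveI : (RingHom.ker (Algebra.TensorProduct.map f (AlgHom.id M L))).IsPrime :=
    RingHom.ker_isPrime _
  have hlt : RingHom.ker (Algebra.TensorProduct.map f (AlgHom.id M L)) < RingHom.ker θ :=
    lt_of_le_of_ne ((ker_map_le f).trans hle) fun e => hne (e ▸ ker_map_le f)
  have hcomap : Ideal.comap (algebraMap C (C ⊗[M] L)) (RingHom.ker θ) ≤
      Ideal.comap (algebraMap C (C ⊗[M] L))
        (RingHom.ker (Algebra.TensorProduct.map f (AlgHom.id M L))) := by
    intro x hx
    have h0 : θ (x ⊗ₜ 1) = 0 := hx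
    rw [hθ] at h0
    show Algebra.TensorProduct.map f (AlgHom.id M L) (x ⊗ₜ 1) = 0
    rw [Algebra.TensorProduct.map_tmul, show f x = 0 from hg (h0.trans (map_zero g).symm),
      TensorProduct.zero_tmul]
  exact absurd hcomap (not_le_of_gt (Ideal.IsIntegral.comap_lt_comap hlt))

theorem fg_ker_of_equiv {X Y Z : Type*} [CommRing X] [CommRing Y] [CommRing Z] (φ : X →+* Z)
    (e : X ≃+* Y) (J : Ideal Y) (h : RingHom.ker (φ.comp e.symm.toRingHom) = J) (hJ : J.FG) :
    (RingHom.ker φ).FG := by
  have : RingHom.ker φ = J.map e.symm.toRingHom := by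
    rw [← h, ← RingHom.comap_ker]
    exact (Ideal.map_comap_of_surjective e.symm.toRingHom e.symm.surjective _).symm
  exact this ▸ hJ.map _

end

section

variable {V : Type u} [CommRing V] {B : Type u} [CommRing B] [IsNoetherianRing B] [Algebra V B]
  {L : Type u} [Field L] [Algebra V L] {Ω : Type u} [Field Ω] (φ : (L ⊗[V] B) →+* Ω)

/-- The kernel comes from a finite level. -/
theorem fg_ker_of_finite_level (M : Type u) [Field M] [CharZero M] [Algebra V M]
    [Algebra.FiniteType V M] (F : Type u) [Field F] [Algebra B F] [Algebra V F] [IsScalarTower V B F]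
    [Algebra M F] [IsScalarTower V M F] [Algebra M L] [IsScalarTower V M L]
    [Algebra.IsAlgebraic M L] (hM : ∀ x : F, IsIntegral M x → x ∈ Set.range (algebraMap M F))
    (φF : F →+* Ω) (hφF : ∀ b, φF (algebraMap B F b) = φ ((1 : L) ⊗ₜ b))
    (hσ : ∀ m, φ ((algebraMap M L m) ⊗ₜ (1 : B)) = φF (algebraMap M F m)) :
    (RingHom.ker φ).FG := by
  haveI : IsNoetherianRing (B ⊗[V] M) := Algebra.FiniteType.isNoetherianRing B _
  haveI : IsNoetherianRing (M ⊗[V] B) :=
    isNoetherianRing_of_ringEquiv (B ⊗[V] M) (Algebra.TensorProduct.comm V B M).toRingEquiv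
  let f : M ⊗[V] B →ₐ[M] F := Algebra.TensorProduct.lift (Algebra.ofId M F)
    (IsScalarTower.toAlgHom V B F) fun _ _ => Commute.all _ _
  let E : (L ⊗[V] B) ≃+* (M ⊗[V] B) ⊗[M] L :=
    ((Algebra.TensorProduct.cancelBaseChange V M M L B).symm.trans
      (Algebra.TensorProduct.comm M L (M ⊗[V] B))).toRingEquiv
  have hθ : ∀ x : M ⊗[V] B, (φ.comp E.symm.toRingHom) (x ⊗ₜ (1 : L)) = φF (f x) := by
    intro x
    induction x with
    | zero => simp
    | add x y hx hy => rw [TensorProduct.add_tmul, map_add, hx, hy, map_add, map_add]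
    | tmul m b =>
      show φ (Algebra.TensorProduct.cancelBaseChange V M M L B ((1 : L) ⊗ₜ (m ⊗ₜ b))) = _
      rw [Algebra.TensorProduct.cancelBaseChange_tmul,
        show (m • (1 : L)) ⊗ₜ[V] b = (algebraMap M L m ⊗ₜ[V] (1 : B)) * ((1 : L) ⊗ₜ b) by
          rw [Algebra.TensorProduct.tmul_mul_tmul, one_mul, mul_one,
            Algebra.algebraMap_eq_smul_one],
        map_mul, hσ, ← hφF, ← map_mul]
      exact congrArg φF (Algebra.TensorProduct.lift_tmul (Algebra.ofId M F)
        (IsScalarTower.toAlgHom V B F) (fun _ _ => Commute.all _ _) m b).symm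
  haveI : IsDomain (F ⊗[M] L) := isDomain_tensor_of_algClosedIn hM
  exact fg_ker_of_equiv φ E _
    (ker_eq_map_of_isDomain f (φ.comp E.symm.toRingHom) φF φF.injective hθ)
    ((show Ideal.FG (RingHom.ker f) from IsNoetherian.noetherian _).map _)

/-- The finite level is the relative algebraic closure of the base in the residue field. -/
theorem fg_ker_of_finite_closure [IsAlgClosed L] (K : Type u) [Field K] [CharZero K] [Algebra V K]
    [Algebra.FiniteType V K] (F : Type u) [Field F] [Algebra B F] [Algebra V F] [IsScalarTower V B F]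
    [Algebra K F] [IsScalarTower V K F] [Algebra K L] [IsScalarTower V K L]
    [Algebra.IsAlgebraic K L] (M : IntermediateField K F) [FiniteDimensional K M]
    (hMmem : ∀ x : F, IsIntegral K x → x ∈ M)
    (φF : F →+* Ω) (hφF : ∀ b, φF (algebraMap B F b) = φ ((1 : L) ⊗ₜ b))
    (hK : ∀ k, φF (algebraMap K F k) = φ (algebraMap K L k ⊗ₜ (1 : B))) :
    (RingHom.ker φ).FG := by
  let φL : L →+* Ω := φ.comp Algebra.TensorProduct.includeLeftRingHom
  letI : Algebra K Ω := (φL.comp (algebraMap K L)).toAlgebra
  letI : Algebra L Ω := φL.toAlgebra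
  haveI : IsScalarTower K L Ω := IsScalarTower.of_algebraMap_eq fun _ => rfl
  let ψF : F →ₐ[K] Ω := ⟨φF, hK⟩
  let ψL : L →ₐ[K] Ω := ⟨φL, fun _ => rfl⟩
  have hrange : ∀ m : M, ψF m.1 ∈ ψL.range := by
    intro m
    have hm : IsIntegral L (ψF m.1) :=
      ((Algebra.IsIntegral.isIntegral (R := K) m).map (ψF.comp M.val)).tower_top
    exact minpoly.mem_range_of_degree_eq_one L _
      (IsAlgClosed.degree_eq_one_of_irreducible L (minpoly.irreducible hm))
  let σ : M →ₐ[K] L := (AlgEquiv.ofInjectiveField ψL).symm.toAlgHom.comp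
    ((ψF.comp M.val).codRestrict ψL.range hrange)
  letI : Algebra M L := σ.toRingHom.toAlgebra
  haveI : IsScalarTower K M L := IsScalarTower.of_algebraMap_eq fun k => (σ.commutes k).symm
  haveI : IsScalarTower V M L := IsScalarTower.of_algebraMap_eq fun v => by
    rw [IsScalarTower.algebraMap_apply V K M, ← IsScalarTower.algebraMap_apply K M L,
      ← IsScalarTower.algebraMap_apply]
  haveI : IsScalarTower V M F := IsScalarTower.of_algebraMap_eq fun v => by
    rw [IsScalarTower.algebraMap_apply V K M, ← IsScalarTower.algebraMap_apply K M F,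
      ← IsScalarTower.algebraMap_apply]
  haveI : Algebra.IsAlgebraic M L := Algebra.IsAlgebraic.tower_top (K := K) M
  haveI : CharZero M := charZero_of_injective_algebraMap (algebraMap K M).injective
  haveI : Algebra.FiniteType V M :=
    Algebra.FiniteType.trans ‹Algebra.FiniteType V K› (inferInstance : Algebra.FiniteType K M)
  refine fg_ker_of_finite_level φ M F (fun x hx => ⟨⟨x, hMmem x (isIntegral_trans x hx)⟩, rfl⟩)
    φF hφF fun m => ?_
  exact congrArg Subtype.val ((AlgEquiv.ofInjectiveField ψL).apply_symm_apply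
    (⟨ψF m.1, hrange m⟩ : ψL.range))

end

/-- A point of the algebraic Milnor fibre has finitely generated kernel. -/
theorem fg_ker_milnorFibre (L : Type u) [Field L] [IsAlgClosed L] [Algebra V L]
    [FaithfulSMul V L] [Algebra.IsAlgebraic V L] (B : Type u) [CommRing B] [IsNoetherianRing B]
    [IsLocalRing B] [Algebra V B] (hVB : (maximalIdeal V).map (algebraMap V B) ≤ maximalIdeal B)
    (Ω : Type u) [Field Ω] (φ : (L ⊗[V] B) →+* Ω) : (RingHom.ker φ).FG := by
  let φL : L →+* Ω := φ.comp Algebra.TensorProduct.includeLeftRingHom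
  let φB : B →+* Ω := φ.comp (Algebra.TensorProduct.includeRight : B →ₐ[V] L ⊗[V] B).toRingHom
  have hcomm : ∀ v : V, φL (algebraMap V L v) = φB (algebraMap V B v) := fun v =>
    congrArg φ (Algebra.TensorProduct.tmul_one_eq_one_tmul v)
  set P := RingHom.ker φB with hP
  haveI : P.IsPrime := RingHom.ker_isPrime φB
  let R := B ⧸ P
  have hinj : Function.Injective (algebraMap V R) := by
    intro x y h
    have h' : φB (algebraMap V B x) = φB (algebraMap V B y) :=
      RingHom.sub_mem_ker_iff φB |>.1 (Ideal.Quotient.eq.1 h)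
    rw [← hcomm, ← hcomm] at h'
    exact FaithfulSMul.algebraMap_injective V L (φL.injective h')
  haveI : IsLocalRing R :=
    IsLocalRing.of_surjective' (Ideal.Quotient.mk P) Ideal.Quotient.mk_surjective
  have hVR : (maximalIdeal V).map (algebraMap V R) ≤ maximalIdeal R := by
    rw [IsScalarTower.algebraMap_eq V B R, ← Ideal.map_map]
    refine (Ideal.map_mono hVB).trans (IsLocalRing.le_maximalIdeal ?_)
    intro htop
    obtain ⟨b, hb, hb1⟩ := (Ideal.mem_map_iff_of_surjective _ Ideal.Quotient.mk_surjective).1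
      (htop.symm ▸ Submodule.mem_top (x := (1 : R)))
    have : b - 1 ∈ maximalIdeal B := IsLocalRing.le_maximalIdeal (RingHom.ker_ne_top φB)
      (Ideal.Quotient.eq.1 (hb1.trans (map_one _).symm))
    exact (maximalIdeal.isMaximal B).ne_top ((Ideal.eq_top_iff_one _).2
      (by simpa using sub_mem hb this))
  haveI : CharZero (FractionRing V) :=
    charZero_of_injective_algebraMap (IsFractionRing.injective V (FractionRing V))
  haveI : Algebra.FiniteType V (FractionRing V) := finiteType_fractionRing V _
  letI : Algebra (FractionRing V) L := FractionRing.liftAlgebra V L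
  haveI : Algebra.IsAlgebraic (FractionRing V) L :=
    Algebra.IsAlgebraic.extendScalars (IsFractionRing.injective V (FractionRing V))
  haveI : FaithfulSMul V (FractionRing R) := (faithfulSMul_iff_algebraMap_injective _ _).2 (by
    rw [IsScalarTower.algebraMap_eq V R (FractionRing R)]
    exact (IsFractionRing.injective R _).comp hinj)
  letI : Algebra (FractionRing V) (FractionRing R) := FractionRing.liftAlgebra V _
  obtain ⟨M, hMfin, hMmem⟩ :=
    finiteDimensional_algebraicClosure V (FractionRing V) R hVR hinj (FractionRing R)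
  haveI := hMfin
  have hφR : Function.Injective (Ideal.Quotient.lift P φB fun b hb => hb) :=
    (injective_iff_map_eq_zero _).2 fun r hr => by
      obtain ⟨b, rfl⟩ := Ideal.Quotient.mk_surjective r
      exact Ideal.Quotient.eq_zero_iff_mem.2 hr
  let φF : FractionRing R →+* Ω := IsFractionRing.lift hφR
  have hφF : ∀ b, φF (algebraMap B (FractionRing R) b) = φB b := fun b => by
    rw [IsScalarTower.algebraMap_apply B R (FractionRing R)]
    exact IsFractionRing.lift_algebraMap hφR _
  refine fg_ker_of_finite_closure φ (FractionRing V) (FractionRing R) M hMmem φF hφF ?_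
  refine RingHom.congr_fun (g := φL.comp (algebraMap (FractionRing V) L))
    (f := φF.comp (algebraMap (FractionRing V) (FractionRing R)))
    (IsLocalization.ringHom_ext (nonZeroDivisors V) (RingHom.ext fun v => ?_))
  show φF (algebraMap (FractionRing V) (FractionRing R) (algebraMap V _ v)) =
    φL (algebraMap (FractionRing V) L (algebraMap V _ v))
  rw [← IsScalarTower.algebraMap_apply V (FractionRing V) (FractionRing R),
    ← IsScalarTower.algebraMap_apply V (FractionRing V) L,
    IsScalarTower.algebraMap_apply V B (FractionRing R), hφF, hcomm]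

/-- The algebraic Milnor fibre of a Noetherian local algebra over a henselian DVR is Noetherian. -/
theorem isNoetherianRing_milnorFibre (L : Type u) [Field L] [IsAlgClosed L] [Algebra V L]
    [FaithfulSMul V L] [Algebra.IsAlgebraic V L] (B : Type u) [CommRing B] [IsNoetherianRing B]
    [IsLocalRing B] [Algebra V B] (hVB : (maximalIdeal V).map (algebraMap V B) ≤ maximalIdeal B) :
    IsNoetherianRing (L ⊗[V] B) := by
  refine IsNoetherianRing.of_prime fun Q hQ => ?_
  have h := fg_ker_milnorFibre V L B hVB (FractionRing ((L ⊗[V] B) ⧸ Q))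
    ((algebraMap _ _).comp (Ideal.Quotient.mk Q))
  rwa [RingHom.ker_comp_of_injective _ (IsFractionRing.injective _ _), Ideal.mk_ker] at h

end Groth.Agent.Milnor
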